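import Mathlib

open CategoryTheory CategoryTheory.Limits

namespace Groth.Agent.H5.PDRes
universe v u

variable {C : Type u} [Category.{v} C] [Abelian C] [EnoughProjectives C]

/-- a projective presentation which is the identity on projective objects -/
noncomputable def pres (X : C) : ProjectivePresentation X := by
  classical
  exact if h : Projective X then { p := X, f := 𝟙 X } else (EnoughProjectives.presentation X).some

theorem pres_of_projective (X : C) [hX : Projective X] : pres X = { p := X, f := 𝟙 X } := by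
  unfold pres
  exact dif_pos hX

noncomputable def over' (X : C) : C := (pres X).p
noncomputable def π' (X : C) : over' X ⟶ X := (pres X).f

instance (X : C) : Projective (over' X) := (pres X).projective
instance (X : C) : Epi (π' X) := (pres X).epi

theorem isIso_π' (X : C) [hX : Projective X] : IsIso (π' X) := by
  have : ∀ s : ProjectivePresentation X, s = { p := X, f := 𝟙 X } → IsIso s.f := by
    rintro _ rfl; infer_instance
  exact this _ (pres_of_projective X)

/-- stage of the construction: an object `T` with a map to the previous term -/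
structure Stg (C : Type u) [Category.{v} C] where
  T : C
  A : C
  j : T ⟶ A

noncomputable def F (s : Stg C) : over' s.T ⟶ s.A := π' s.T ≫ s.j

@[reducible] noncomputable def next (s : Stg C) : Stg C :=
  ⟨kernel (F s), over' s.T, kernel.ι (F s)⟩

theorem Fnext_comp_F (s : Stg C) : F (next s) ≫ F s = 0 := by
  show (π' (kernel (F s)) ≫ kernel.ι (F s)) ≫ F s = 0
  rw [Category.assoc, kernel.condition, comp_zero]

theorem exact_step (s : Stg C) :
    (ShortComplex.mk (F (next s)) (F s) (Fnext_comp_F s)).Exact := by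
  let α : ShortComplex.mk (F (next s)) (F s) (Fnext_comp_F s) ⟶
      ShortComplex.mk (kernel.ι (F s)) (F s) (kernel.condition _) :=
    { τ₁ := π' (kernel (F s))
      τ₂ := 𝟙 _
      τ₃ := 𝟙 _
      comm₁₂ := show π' (kernel (F s)) ≫ kernel.ι (F s) = F (next s) ≫ 𝟙 _ from
        (Category.comp_id _).symm
      comm₂₃ := (Category.id_comp _).trans (Category.comp_id _).symm }
  haveI : Epi α.τ₁ := inferInstanceAs (Epi (π' (kernel (F s))))
  haveI : IsIso α.τ₂ := inferInstanceAs (IsIso (𝟙 _))
  haveI : Mono α.τ₃ := inferInstanceAs (Mono (𝟙 _))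
  rw [ShortComplex.exact_iff_of_epi_of_isIso_of_mono α]
  apply ShortComplex.exact_of_f_is_kernel
  apply kernelIsKernel

noncomputable def st (Z : C) : ℕ → Stg C
  | 0 => ⟨Z, Z, 𝟙 Z⟩
  | n + 1 => next (st Z n)

noncomputable def X (Z : C) (n : ℕ) : C := over' (st Z n).T

instance (Z : C) (n : ℕ) : Projective (X Z n) := by unfold X; infer_instance

noncomputable def d (Z : C) (n : ℕ) : X Z (n + 1) ⟶ X Z n := F (st Z (n + 1))

theorem d_comp_d (Z : C) (n : ℕ) : d Z (n + 1) ≫ d Z n = 0 := Fnext_comp_F (st Z (n + 1))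

noncomputable def cx (Z : C) : ChainComplex C ℕ := ChainComplex.of (X Z) (d Z) (d_comp_d Z)

theorem cx_d (Z : C) (n : ℕ) : (cx Z).d (n + 1) n = d Z n := ChainComplex.of_d _ _ _

instance (Z : C) (n : ℕ) : Projective ((cx Z).X n) := by
  change Projective (X Z n); infer_instance

theorem cx_exactAt_succ (Z : C) (n : ℕ) : (cx Z).ExactAt (n + 1) := by
  rw [HomologicalComplex.exactAt_iff' _ (n + 1 + 1) (n + 1) n (by simp) (by simp)]
  have h1 : (cx Z).d (n + 1 + 1) (n + 1) = F (next (st Z (n + 1))) := cx_d Z (n + 1)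
  have h2 : (cx Z).d (n + 1) n = F (st Z (n + 1)) := cx_d Z n
  refine ShortComplex.exact_of_iso ?_ (exact_step (st Z (n + 1)))
  exact ShortComplex.isoMk (Iso.refl _) (Iso.refl _) (Iso.refl _)
    ((Category.id_comp _).trans (h1.trans (Category.comp_id _).symm))
    ((Category.id_comp _).trans (h2.trans (Category.comp_id _).symm))

theorem F_zero (Z : C) : F (st Z 0) = π' Z ≫ 𝟙 Z := rfl

theorem d_zero_comp (Z : C) : d Z 0 ≫ π' Z = 0 := by
  have := Fnext_comp_F (st Z 0)
  rw [F_zero, Category.comp_id] at this
  exact this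

noncomputable def resπ (Z : C) : cx Z ⟶ (ChainComplex.single₀ C).obj Z :=
  (ChainComplex.toSingle₀Equiv _ _).symm ⟨(π' Z : (cx Z).X 0 ⟶ Z), by
    rw [cx_d]; exact d_zero_comp Z⟩

theorem resπ_f_zero (Z : C) : (resπ Z).f 0 = (π' Z : (cx Z).X 0 ⟶ Z) := by
  unfold resπ
  simp

theorem exact0 (Z : C) : (ShortComplex.mk (d Z 0) (π' Z) (d_zero_comp Z)).Exact := by
  have h := exact_step (st Z 0)
  have hF : F (st Z 0) = π' Z := by rw [F_zero, Category.comp_id]
  refine ShortComplex.exact_of_iso ?_ h
  exact ShortComplex.isoMk (Iso.refl _) (Iso.refl _) (Iso.refl _)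
    ((Category.id_comp _).trans (Category.comp_id _).symm)
    ((Category.id_comp _).trans (hF.symm.trans (Category.comp_id _).symm))

theorem quasiIsoAt_zero (Z : C) : QuasiIsoAt (resπ Z) 0 := by
  rw [ChainComplex.quasiIsoAt₀_iff, ShortComplex.quasiIso_iff_of_zeros']
  · refine (ShortComplex.exact_and_epi_g_iff_of_iso ?_).2
      ⟨exact0 Z, inferInstanceAs (Epi (π' Z))⟩
    exact ShortComplex.isoMk (Iso.refl _) (Iso.refl _) (Iso.refl _)
      ((Category.id_comp _).trans ((cx_d Z 0).symm.trans (Category.comp_id _).symm))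
      ((Category.id_comp _).trans ((resπ_f_zero Z).symm.trans (Category.comp_id _).symm))
  all_goals rfl

noncomputable def res (Z : C) : ProjectiveResolution Z where
  complex := cx Z
  π := resπ Z
  quasiIso := ⟨fun n => by
    cases n
    · exact quasiIsoAt_zero Z
    · rw [quasiIsoAt_iff_exactAt']
      · apply cx_exactAt_succ
      · apply ChainComplex.exactAt_succ_single_obj⟩


/-! ### vanishing -/

section Step
variable (s : Stg C)

theorem next_pd [Mono s.j] (m : ℕ) [h : HasProjectiveDimensionLT s.T (m + 2)] :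
    HasProjectiveDimensionLT (next s).T (m + 1) := by
  let S : ShortComplex C := ShortComplex.mk (kernel.ι (π' s.T)) (π' s.T) (kernel.condition _)
  have hS : S.ShortExact :=
    { exact := ShortComplex.exact_of_f_is_kernel _ (kernelIsKernel _)
      mono_f := inferInstanceAs (Mono (kernel.ι (π' s.T)))
      epi_g := inferInstanceAs (Epi (π' s.T)) }
  have h₂ : HasProjectiveDimensionLT S.X₂ (m + 1) := by
    haveI : Projective S.X₂ := inferInstanceAs (Projective (over' s.T))
    exact hasProjectiveDimensionLT_of_ge S.X₂ 1 (m + 1) (by omega)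
  have h₃ : HasProjectiveDimensionLT S.X₃ (m + 1 + 1) := h
  have h₁ : HasProjectiveDimensionLT (kernel (π' s.T)) (m + 1) :=
    hS.hasProjectiveDimensionLT_X₁ (m + 1) h₂ h₃
  exact hasProjectiveDimensionLT_of_iso (kernelCompMono (π' s.T) s.j).symm (m + 1)

theorem next_isZero_of_projective [Mono s.j] [Projective s.T] : IsZero (next s).T := by
  haveI := isIso_π' s.T
  haveI : Mono (F s) := by unfold F; infer_instance
  exact isZero_kernel_of_mono (F s)

theorem projective_of_isZero {X : C} (h : IsZero X) : Projective X :=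
  ⟨fun f e _ => ⟨0, h.eq_of_src _ _⟩⟩

theorem over'_isZero (h : IsZero s.T) : IsZero (over' s.T) := by
  haveI := projective_of_isZero h
  haveI := isIso_π' s.T
  exact IsZero.of_iso h (asIso (π' s.T))

end Step

theorem mono_st (Z : C) (n : ℕ) : Mono (st Z n).j := by
  cases n with
  | zero => exact inferInstanceAs (Mono (𝟙 Z))
  | succ n => exact inferInstanceAs (Mono (kernel.ι (F (st Z n))))

theorem pd_st (Z : C) (d : ℕ) [h : HasProjectiveDimensionLT Z (d + 1)] :
    ∀ n, n ≤ d → HasProjectiveDimensionLT (st Z n).T (d + 1 - n) := by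
  intro n
  induction n with
  | zero => intro _; exact h
  | succ n ih =>
    intro hn
    have ih' := ih (by omega)
    obtain ⟨m, hm⟩ : ∃ m, d + 1 - n = m + 2 := ⟨d - n - 1, by omega⟩
    have hm' : d + 1 - (n + 1) = m + 1 := by omega
    rw [hm] at ih'
    rw [hm']
    haveI := mono_st Z n
    exact next_pd (st Z n) m

theorem isZero_st (Z : C) (d : ℕ) [h : HasProjectiveDimensionLT Z (d + 1)] :
    ∀ n, d < n → IsZero (st Z n).T := by
  intro n hn
  obtain ⟨k, rfl⟩ : ∃ k, n = d + 1 + k := ⟨n - (d + 1), by omega⟩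
  clear hn
  induction k with
  | zero =>
    have h1 := pd_st Z d d le_rfl
    have h2 : d + 1 - d = 1 := by omega
    rw [h2] at h1
    haveI := mono_st Z d
    haveI : Projective (st Z d).T := inferInstance
    exact next_isZero_of_projective (st Z d)
  | succ k ih =>
    haveI := mono_st Z (d + 1 + k)
    haveI := projective_of_isZero ih
    exact next_isZero_of_projective (st Z (d + 1 + k))

theorem isZero_res (Z : C) (d : ℕ) [h : HasProjectiveDimensionLT Z (d + 1)] (n : ℕ)
    (hn : d < n) : IsZero ((res Z).complex.X n) :=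
  over'_isZero (st Z n) (isZero_st Z d n hn)

end Groth.Agent.H5.PDRes

namespace Groth.Agent.H5.PDRes
universe u
open CategoryTheory CategoryTheory.Limits

theorem main (R : Type u) [CommRing R]
    (M : ModuleCat.{u} R) (d : ℕ) :
    HasProjectiveDimensionLE M d ↔
      ∃ P : ProjectiveResolution M, ∀ i : ℕ, d < i → IsZero (P.complex.X i) := by
  constructor
  · intro h
    haveI : HasProjectiveDimensionLT M (d + 1) := h
    exact ⟨res M, fun i hi => isZero_res M d i hi⟩
  · rintro ⟨P, hP⟩
    show HasProjectiveDimensionLT M (d + 1)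
    rw [hasProjectiveDimensionLT_iff]
    intro i hi Y e
    obtain ⟨f, hf, rfl⟩ := P.extMk_surjective e (i + 1) rfl
    have : f = 0 := (hP i (by omega)).eq_of_src _ _
    subst this
    exact P.extMk_zero (i + 1) rfl

end Groth.Agent.H5.PDRes
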